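import Groth.Prelude.Def_W4c2quivmodsheafKron
import Mathlib

/-! Basic facts on Kronecker modules. -/

set_option linter.unusedSectionVars false

namespace Groth.Agent.KronH

open Module KronMod

variable {K : Type*} [Field K] {V W : Type*}
  [AddCommGroup V] [Module K V] [FiniteDimensional K V]
  [AddCommGroup W] [Module K W] [FiniteDimensional K W] {n : ℕ}

/-- The map `Vⁿ → W`. -/
def sumMap (f : Fin n → (V →ₗ[K] W)) : (Fin n → V) →ₗ[K] W := LinearMap.lsum K _ K f

/-- The map `V → Wⁿ`. -/
def piMap (f : Fin n → (V →ₗ[K] W)) : V →ₗ[K] (Fin n → W) := LinearMap.pi f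

omit [FiniteDimensional K V] [FiniteDimensional K W] in
theorem sumMap_apply (f : Fin n → (V →ₗ[K] W)) (v : Fin n → V) :
    sumMap f v = ∑ j, f j (v j) := by
  simp [sumMap]

omit [FiniteDimensional K V] [FiniteDimensional K W] in
theorem sumMap_single (f : Fin n → (V →ₗ[K] W)) (j : Fin n) (x : V) :
    sumMap f (Pi.single j x) = f j x := by
  rw [sumMap_apply, Finset.sum_eq_single j] <;> simp +contextual

omit [FiniteDimensional K V] [FiniteDimensional K W] in
theorem sumMap_coe (f : Fin n → (V →ₗ[K] W)) :
    (fun v : Fin n → V => ∑ j, f j (v j)) = sumMap f := by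
  funext v; rw [sumMap_apply]

theorem sumMap_surjective_of_isSemistable {f : Fin n → (V →ₗ[K] W)} (hf : IsSemistable f)
    (hV : 0 < finrank K V) : Function.Surjective (sumMap f) := by
  rw [← LinearMap.range_eq_top]
  by_contra hne
  have hsub : IsSubrep f ⊤ (LinearMap.range (sumMap f)) := by
    rintro j _ ⟨x, -, rfl⟩
    exact ⟨Pi.single j x, sumMap_single f j x⟩
  have hnb : ¬ ((⊤ : Submodule K V) = ⊥ ∧ LinearMap.range (sumMap f) = ⊥) := by
    rintro ⟨h, -⟩
    have h2 : finrank K (⊤ : Submodule K V) = 0 := by rw [h, finrank_bot]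
    rw [finrank_top] at h2
    omega
  have h := hf.2 ⊤ _ hsub hnb (fun hh => hne hh.2)
  rw [finrank_top] at h
  have h2 := Submodule.finrank_lt hne
  have h3 : finrank K W ≤ finrank K (LinearMap.range (sumMap f)) :=
    Nat.le_of_mul_le_mul_left (by rwa [mul_comm] at h) hV
  omega

theorem piMap_injective_of_isSemistable {f : Fin n → (V →ₗ[K] W)} (hf : IsSemistable f)
    (hW : 0 < finrank K W) : Function.Injective (piMap f) := by
  rw [← LinearMap.ker_eq_bot]
  by_contra hne
  have hsub : IsSubrep f (LinearMap.ker (piMap f)) ⊥ := by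
    rintro j _ ⟨x, hx, rfl⟩
    exact congrFun (LinearMap.mem_ker.mp hx) j
  have hnb : ¬ (LinearMap.ker (piMap f) = ⊤ ∧ (⊥ : Submodule K W) = ⊤) := by
    rintro ⟨-, h⟩
    have h2 : finrank K (⊤ : Submodule K W) = 0 := by rw [← h, finrank_bot]
    rw [finrank_top] at h2
    omega
  have h := hf.2 _ ⊥ hsub (fun hh => hne hh.1) hnb
  rw [finrank_bot, mul_zero, Nat.le_zero, mul_eq_zero] at h
  rcases h with h | h
  · omega
  · exact hne (Submodule.finrank_eq_zero.mp h)

theorem bijective_sumMap_of_isSemistable {f : Fin n → (V →ₗ[K] W)} (hf : IsSemistable f)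
    (hV : 0 < finrank K V) (hW : finrank K W = n * finrank K V) :
    Function.Bijective (sumMap f) := by
  have hs := sumMap_surjective_of_isSemistable hf hV
  refine ⟨?_, hs⟩
  rw [LinearMap.injective_iff_surjective_of_finrank_eq_finrank]
  · exact hs
  · rw [hW, Module.finrank_pi_fintype]; simp

theorem bijective_piMap_of_isSemistable {f : Fin n → (V →ₗ[K] W)} (hf : IsSemistable f)
    (hW : 0 < finrank K W) (hV : finrank K V = n * finrank K W) :
    Function.Bijective (piMap f) := by
  have hi := piMap_injective_of_isSemistable hf hW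
  refine ⟨hi, ?_⟩
  rw [← LinearMap.injective_iff_surjective_of_finrank_eq_finrank]
  · exact hi
  · rw [hV, Module.finrank_pi_fintype]; simp

theorem mul_finrank_le_of_sumMap_injective {f : Fin n → (V →ₗ[K] W)}
    (hi : Function.Injective (sumMap f)) {V' : Submodule K V} {W' : Submodule K W}
    (h : IsSubrep f V' W') : n * finrank K V' ≤ finrank K W' := by
  let g : (Fin n → V') →ₗ[K] W' :=
    ((sumMap f).comp (LinearMap.pi fun j => V'.subtype.comp (LinearMap.proj j))).codRestrict W'
      (fun v => by
        rw [LinearMap.comp_apply, sumMap_apply]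
        exact Submodule.sum_mem _ (fun j _ => h j ⟨v j, (v j).2, rfl⟩))
  have hg : Function.Injective g := by
    intro a b hab
    have := hi (congrArg Subtype.val hab)
    funext j
    exact Subtype.ext (congrFun this j)
  have := LinearMap.finrank_le_finrank_of_injective hg
  rwa [Module.finrank_pi_fintype, Finset.sum_const, Finset.card_univ, Fintype.card_fin,
    smul_eq_mul] at this

theorem finrank_le_mul_of_piMap_injective {f : Fin n → (V →ₗ[K] W)}
    (hi : Function.Injective (piMap f)) {V' : Submodule K V} {W' : Submodule K W}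
    (h : IsSubrep f V' W') : finrank K V' ≤ n * finrank K W' := by
  let g : V' →ₗ[K] (Fin n → W') :=
    LinearMap.pi fun j => ((f j).comp V'.subtype).codRestrict W' (fun v => h j ⟨v, v.2, rfl⟩)
  have hg : Function.Injective g := by
    intro a b hab
    refine Subtype.ext (hi (funext fun j => ?_))
    exact congrArg Subtype.val (congrFun hab j)
  have := LinearMap.finrank_le_finrank_of_injective hg
  rwa [Module.finrank_pi_fintype, Finset.sum_const, Finset.card_univ, Fintype.card_fin,
    smul_eq_mul] at this

omit [FiniteDimensional K V] [FiniteDimensional K W] in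
theorem isSemistable_of_sumMap_injective {f : Fin n → (V →ₗ[K] W)} [FiniteDimensional K W]
    [FiniteDimensional K V]
    (hi : Function.Injective (sumMap f)) (hV : 0 < finrank K V)
    (hW : finrank K W = n * finrank K V) : IsSemistable f := by
  refine ⟨by omega, fun V' W' h _ _ => ?_⟩
  have h2 := Nat.mul_le_mul_left (finrank K V) (mul_finrank_le_of_sumMap_injective hi h)
  rw [hW]
  calc n * finrank K V * finrank K V' = finrank K V * (n * finrank K V') := by ring
    _ ≤ _ := h2

theorem isSemistable_of_piMap_injective {f : Fin n → (V →ₗ[K] W)}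
    (hi : Function.Injective (piMap f)) (hW : 0 < finrank K W)
    (hV : finrank K V = n * finrank K W) : IsSemistable f := by
  refine ⟨by omega, fun V' W' h _ _ => ?_⟩
  have h2 := Nat.mul_le_mul_left (finrank K W) (finrank_le_mul_of_piMap_injective hi h)
  rw [hV]
  calc finrank K W * finrank K V' ≤ finrank K W * (n * finrank K W') := h2
    _ = _ := by ring

omit [FiniteDimensional K V] [FiniteDimensional K W] in
theorem isSemistable_of_isStable {f : Fin n → (V →ₗ[K] W)} (hf : IsStable f) : IsSemistable f :=
  ⟨hf.1, fun V' W' h h1 h2 => (hf.2 V' W' h h1 h2).le⟩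

theorem finrank_eq_one_of_isStable_dim_eq_mul {f : Fin n → (V →ₗ[K] W)} (hf : IsStable f)
    (hV : 0 < finrank K V) (hW : finrank K W = n * finrank K V) : finrank K V = 1 := by
  by_contra h1
  have : Nontrivial V := Module.finrank_pos_iff.mp hV
  obtain ⟨x, hx⟩ := exists_ne (0 : V)
  let S : Submodule K (Fin n → V) := Submodule.pi Set.univ fun _ => K ∙ x
  let W' : Submodule K W := ⨆ j, (K ∙ x).map (f j)
  have hsub : IsSubrep f (K ∙ x) W' := fun j => le_iSup (fun j => (K ∙ x).map (f j)) j
  have hnb : ¬ ((K ∙ x) = ⊥ ∧ W' = ⊥) := fun hh => hx (by simpa using hh.1)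
  have hnt : ¬ ((K ∙ x) = ⊤ ∧ W' = ⊤) := fun hh => by
    have := finrank_span_singleton (K := K) hx
    rw [hh.1, finrank_top] at this
    omega
  have hlt := hf.2 _ _ hsub hnb hnt
  rw [finrank_span_singleton hx, mul_one, hW] at hlt
  have hle : finrank K W' ≤ n := by
    have : W' ≤ Submodule.span K (Set.range fun j => f j x) := by
      refine iSup_le fun j => ?_
      rw [Submodule.map_span, Set.image_singleton]
      exact Submodule.span_mono (by simp)
    refine (Submodule.finrank_mono this).trans ?_
    exact (finrank_range_le_card (R := K) (fun j => f j x)).trans (Fintype.card_fin n).le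
  have h4 := Nat.mul_le_mul_left (finrank K V) hle
  rw [mul_comm] at hlt
  omega

theorem finrank_eq_one_of_isStable_mul_eq_dim {f : Fin n → (V →ₗ[K] W)} (hf : IsStable f)
    (hW : 0 < finrank K W) (hV : finrank K V = n * finrank K W) : finrank K W = 1 := by
  by_contra h1
  have hb := bijective_piMap_of_isSemistable (isSemistable_of_isStable hf) hW hV
  let e : V ≃ₗ[K] (Fin n → W) := LinearEquiv.ofBijective _ hb
  have : Nontrivial W := Module.finrank_pos_iff.mp hW
  obtain ⟨y, hy⟩ := exists_ne (0 : W)
  let g : (Fin n → K) →ₗ[K] V :=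
    e.symm.toLinearMap.comp (LinearMap.pi fun j => (LinearMap.toSpanSingleton K W y).comp
      (LinearMap.proj j))
  have hg : Function.Injective g := by
    intro a b hab
    have h2 := e.symm.injective hab
    funext j
    exact smul_left_injective K hy (congrFun h2 j)
  have hsub : IsSubrep f (LinearMap.range g) (K ∙ y) := by
    rintro j _ ⟨_, ⟨a, rfl⟩, rfl⟩
    have h2 : e (g a) = fun j => a j • y := e.apply_symm_apply _
    exact Submodule.mem_span_singleton.mpr ⟨a j, (congrFun h2 j).symm⟩
  have hnb : ¬ (LinearMap.range g = ⊥ ∧ (K ∙ y) = ⊥) := fun hh => hy (by simpa using hh.2)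
  have hnt : ¬ (LinearMap.range g = ⊤ ∧ (K ∙ y) = ⊤) := fun hh => by
    have := finrank_span_singleton (K := K) hy
    rw [hh.2, finrank_top] at this
    omega
  have hlt := hf.2 _ _ hsub hnb hnt
  rw [finrank_span_singleton hy, mul_one, LinearMap.finrank_range_of_inj hg,
    Module.finrank_fin_fun, hV, mul_comm] at hlt
  omega

end Groth.Agent.KronH
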