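import Groth.Prelude.Def_W4c2quivmodsheafKron
import Mathlib

/-! Duality of Kronecker modules. -/

set_option linter.unusedSectionVars false

namespace Groth.Agent.KronH

open Module KronMod

variable {K : Type*} [Field K] {V W : Type*}
  [AddCommGroup V] [Module K V] [FiniteDimensional K V]
  [AddCommGroup W] [Module K W] [FiniteDimensional K W] {n : ℕ}

theorem isSubrep_dualMap_iff (f : Fin n → (V →ₗ[K] W)) (V' : Submodule K V) (W' : Submodule K W) :
    IsSubrep (fun j => (f j).dualMap) W'.dualAnnihilator V'.dualAnnihilator ↔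
      IsSubrep f V' W' := by
  constructor
  · rintro h j _ ⟨x, hx, rfl⟩
    rw [← Subspace.dualAnnihilator_dualCoannihilator_eq (W := W')]
    rw [Submodule.mem_dualCoannihilator]
    intro φ hφ
    exact (Submodule.mem_dualAnnihilator _).mp (h j ⟨φ, hφ, rfl⟩) x hx
  · rintro h j _ ⟨φ, hφ, rfl⟩
    rw [Submodule.mem_dualAnnihilator]
    intro x hx
    exact (Submodule.mem_dualAnnihilator _).mp hφ _ (h j ⟨x, hx, rfl⟩)

theorem exists_eq_dualAnnihilator (T : Submodule K (Dual K V)) :
    ∃ S : Submodule K V, T = S.dualAnnihilator :=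
  ⟨T.dualCoannihilator, (Subspace.dualCoannihilator_dualAnnihilator_eq (W := T)).symm⟩

theorem dualAnnihilator_eq_bot (S : Submodule K V) : S.dualAnnihilator = ⊥ ↔ S = ⊤ := by
  constructor
  · intro h
    rw [← Subspace.dualAnnihilator_dualCoannihilator_eq (W := S), h]
    exact Submodule.dualCoannihilator_bot
  · rintro rfl
    exact Submodule.dualAnnihilator_top

theorem dualAnnihilator_eq_top (S : Submodule K V) : S.dualAnnihilator = ⊤ ↔ S = ⊥ := by
  constructor
  · intro h
    have h1 := Subspace.finrank_add_finrank_dualAnnihilator_eq (K := K) (V := V) S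
    rw [h, finrank_top, Subspace.dual_finrank_eq] at h1
    exact Submodule.finrank_eq_zero.mp (by omega)
  · rintro rfl
    exact Submodule.dualAnnihilator_bot

/-- Stability conditions for a module and for its dual, abstract in the comparison. -/
theorem forall_subrep_dual_iff (f : Fin n → (V →ₗ[K] W)) (r : ℕ → ℕ → Prop)
    (hr : ∀ {d e a b : ℕ}, a ≤ d → b ≤ e → (r (e * a) (d * b) ↔ r (d * (e - b)) (e * (d - a)))) :
    (∀ (V' : Submodule K V) (W' : Submodule K W), IsSubrep f V' W' →
      ¬ (V' = ⊥ ∧ W' = ⊥) → ¬ (V' = ⊤ ∧ W' = ⊤) →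
      r (finrank K W * finrank K V') (finrank K V * finrank K W')) ↔
    (∀ (S : Submodule K (Dual K W)) (T : Submodule K (Dual K V)),
      IsSubrep (fun j => (f j).dualMap) S T → ¬ (S = ⊥ ∧ T = ⊥) → ¬ (S = ⊤ ∧ T = ⊤) →
      r (finrank K (Dual K V) * finrank K S) (finrank K (Dual K W) * finrank K T)) := by
  have key : ∀ (V' : Submodule K V) (W' : Submodule K W),
      (r (finrank K W * finrank K V') (finrank K V * finrank K W') ↔
        r (finrank K V * finrank K W'.dualAnnihilator) (finrank K W * finrank K V'.dualAnnihilator)) := by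
    intro V' W'
    have h1 := Subspace.finrank_add_finrank_dualAnnihilator_eq (K := K) (V := V) V'
    have h2 := Subspace.finrank_add_finrank_dualAnnihilator_eq (K := K) (V := W) W'
    have e1 : finrank K V'.dualAnnihilator = finrank K V - finrank K V' := by omega
    have e2 : finrank K W'.dualAnnihilator = finrank K W - finrank K W' := by omega
    rw [e1, e2]
    exact hr (Submodule.finrank_le _) (Submodule.finrank_le _)
  rw [Subspace.dual_finrank_eq, Subspace.dual_finrank_eq]
  constructor
  · intro h S T hsub hnb hnt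
    obtain ⟨W', rfl⟩ := exists_eq_dualAnnihilator S
    obtain ⟨V', rfl⟩ := exists_eq_dualAnnihilator T
    refine (key V' W').mp (h V' W' ((isSubrep_dualMap_iff f V' W').mp hsub) ?_ ?_)
    · rintro ⟨a, b⟩
      exact hnt ⟨(dualAnnihilator_eq_top _).mpr b, (dualAnnihilator_eq_top _).mpr a⟩
    · rintro ⟨a, b⟩
      exact hnb ⟨(dualAnnihilator_eq_bot _).mpr b, (dualAnnihilator_eq_bot _).mpr a⟩
  · intro h V' W' hsub hnb hnt
    refine (key V' W').mpr (h _ _ ((isSubrep_dualMap_iff f V' W').mpr hsub) ?_ ?_)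
    · rintro ⟨a, b⟩
      exact hnt ⟨(dualAnnihilator_eq_bot _).mp b, (dualAnnihilator_eq_bot _).mp a⟩
    · rintro ⟨a, b⟩
      exact hnb ⟨(dualAnnihilator_eq_top _).mp b, (dualAnnihilator_eq_top _).mp a⟩

theorem le_dual_arith {d e a b : ℕ} (ha : a ≤ d) (hb : b ≤ e) :
    e * a ≤ d * b ↔ d * (e - b) ≤ e * (d - a) := by
  rw [Nat.mul_sub, Nat.mul_sub, mul_comm d e]
  have := Nat.mul_le_mul_left e ha
  have := Nat.mul_le_mul_left d hb
  rw [mul_comm d e] at this
  omega

theorem lt_dual_arith {d e a b : ℕ} (ha : a ≤ d) (hb : b ≤ e) :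
    e * a < d * b ↔ d * (e - b) < e * (d - a) := by
  rw [Nat.mul_sub, Nat.mul_sub, mul_comm d e]
  have := Nat.mul_le_mul_left e ha
  have := Nat.mul_le_mul_left d hb
  rw [mul_comm d e] at this
  omega

theorem isSemistable_dualMap_iff (f : Fin n → (V →ₗ[K] W)) :
    IsSemistable f ↔ IsSemistable (fun j => (f j).dualMap) := by
  unfold IsSemistable
  rw [forall_subrep_dual_iff f (· ≤ ·) le_dual_arith, Subspace.dual_finrank_eq,
    Subspace.dual_finrank_eq, add_comm (finrank K V)]

theorem isStable_dualMap_iff (f : Fin n → (V →ₗ[K] W)) :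
    IsStable f ↔ IsStable (fun j => (f j).dualMap) := by
  unfold IsStable
  rw [forall_subrep_dual_iff f (· < ·) lt_dual_arith, Subspace.dual_finrank_eq,
    Subspace.dual_finrank_eq, add_comm (finrank K V)]

end Groth.Agent.KronH
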