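import Groth.Agent.KronH.Basic

/-! Semistable Kronecker modules with two arrows are regular pencils. -/

namespace Groth.Agent.KronH

open Module KronMod Polynomial

variable {K : Type*} [Field K] {V W : Type*}
  [AddCommGroup V] [Module K V] [FiniteDimensional K V]
  [AddCommGroup W] [Module K W] [FiniteDimensional K W]

/-- A singular pencil has a polynomial vector in its kernel. -/
theorem exists_chain_of_singular [Infinite K] (a b : V →ₗ[K] W) {k : ℕ}
    (hV : finrank K V = k) (hW : finrank K W = k)
    (h : ∀ t : K, ¬ Function.Injective (a + t • b)) :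
    ∃ v : ℕ → V, (∃ i, v i ≠ 0) ∧ a (v 0) = 0 ∧ ∀ i, a (v (i + 1)) + b (v i) = 0 := by
  classical
  let eV : V ≃ₗ[K] (Fin k → K) := LinearEquiv.ofFinrankEq _ _ (by simp [hV])
  let eW : W ≃ₗ[K] (Fin k → K) := LinearEquiv.ofFinrankEq _ _ (by simp [hW])
  let A := LinearMap.toMatrix' (eW.toLinearMap ∘ₗ a ∘ₗ eV.symm.toLinearMap)
  let B := LinearMap.toMatrix' (eW.toLinearMap ∘ₗ b ∘ₗ eV.symm.toLinearMap)
  have hA : ∀ x, A.mulVec (eV x) = eW (a x) := fun x => by simp [A]
  have hB : ∀ x, B.mulVec (eV x) = eW (b x) := fun x => by simp [B]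
  let M : Matrix (Fin k) (Fin k) K[X] := A.map C + (X : K[X]) • B.map C
  have hdet : M.det = 0 := by
    refine Polynomial.zero_of_eval_zero _ fun t => ?_
    have hM : M.map (Polynomial.evalRingHom t) = A + t • B := by
      ext i j; simp [M]; ring
    rw [← Polynomial.coe_evalRingHom, RingHom.map_det, RingHom.mapMatrix_apply, hM]
    obtain ⟨x, y, hxy, hne⟩ := Function.not_injective_iff.mp (h t)
    refine Matrix.exists_mulVec_eq_zero_iff.mp ⟨eV (x - y), by simpa [sub_eq_zero] using hne, ?_⟩
    rw [Matrix.add_mulVec, Matrix.smul_mulVec, hA, hB, ← map_smul, ← map_add]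
    rw [show a (x - y) + t • b (x - y) = (a + t • b) (x - y) from rfl, map_sub, hxy, sub_self,
      map_zero]
  obtain ⟨p, hp, hMp⟩ := Matrix.exists_mulVec_eq_zero_iff.mpr hdet
  have hcoef : ∀ (i : Fin k), ∑ j, C (A i j) * p j + X * ∑ j, C (B i j) * p j = 0 := by
    intro i
    have := congrFun hMp i
    rw [Matrix.add_mulVec, Matrix.smul_mulVec] at this
    simpa [Matrix.mulVec, dotProduct] using this
  let v : ℕ → V := fun m => eV.symm fun j => (p j).coeff m
  have hAv : ∀ m i, eW (a (v m)) i = (∑ j, C (A i j) * p j).coeff m := by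
    intro m i
    rw [← hA, LinearEquiv.apply_symm_apply, Polynomial.finsetSum_coeff]
    simp [Matrix.mulVec, dotProduct]
  have hBv : ∀ m i, eW (b (v m)) i = (∑ j, C (B i j) * p j).coeff m := by
    intro m i
    rw [← hB, LinearEquiv.apply_symm_apply, Polynomial.finsetSum_coeff]
    simp [Matrix.mulVec, dotProduct]
  refine ⟨v, ?_, ?_, fun m => ?_⟩
  · by_contra hall
    push Not at hall
    refine hp (funext fun j => Polynomial.ext fun m => ?_)
    have h0 := hall m
    rw [LinearEquiv.map_eq_zero_iff] at h0
    simpa using congrFun h0 j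
  · refine eW.injective (funext fun i => ?_)
    have := congrArg (fun q : K[X] => q.coeff 0) (hcoef i)
    simp only [Polynomial.coeff_add, Polynomial.coeff_X_mul_zero, add_zero,
      Polynomial.coeff_zero] at this
    rw [hAv, this, map_zero, Pi.zero_apply]
  · refine eW.injective (funext fun i => ?_)
    have := congrArg (fun q : K[X] => q.coeff (m + 1)) (hcoef i)
    simp only [Polynomial.coeff_add, Polynomial.coeff_X_mul, Polynomial.coeff_zero] at this
    rw [map_add, Pi.add_apply, hAv, hBv, this, map_zero, Pi.zero_apply]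

/-- A semistable square module with two arrows has an invertible combination. -/
theorem exists_injective_combination [Infinite K] (f : Fin 2 → (V →ₗ[K] W)) {k : ℕ}
    (hV : finrank K V = k) (hW : finrank K W = k) (hf : IsSemistable f) :
    ∃ z : Fin 2 → K, Function.Bijective ((∑ j, z j • f j : V →ₗ[K] W) : V → W) := by
  suffices h : ∃ t : K, Function.Injective (f 0 + t • f 1) by
    obtain ⟨t, ht⟩ := h
    refine ⟨![1, t], ?_⟩
    rw [Fin.sum_univ_two]
    simp only [Matrix.cons_val_zero, Matrix.cons_val_one, one_smul]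
    exact ⟨ht, (LinearMap.injective_iff_surjective_of_finrank_eq_finrank (hV.trans hW.symm)).mp ht⟩
  by_contra h
  push Not at h
  obtain ⟨v, hne, h0, hsucc⟩ := exists_chain_of_singular (f 0) (f 1) hV hW h
  let V' : Submodule K V := Submodule.span K (Set.range v)
  let g := (f 0).domRestrict V'
  have hsub : IsSubrep f V' (LinearMap.range g) := by
    intro j
    fin_cases j
    · rintro _ ⟨x, hx, rfl⟩
      exact ⟨⟨x, hx⟩, rfl⟩
    · change V'.map (f 1) ≤ _
      rw [Submodule.map_span, Submodule.span_le]
      rintro _ ⟨_, ⟨i, rfl⟩, rfl⟩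
      exact ⟨⟨-v (i + 1), neg_mem (Submodule.subset_span ⟨_, rfl⟩)⟩, by
        simp [g, eq_neg_iff_add_eq_zero.mpr (hsucc i)]⟩
  classical
  have hm := Nat.find_spec hne
  have hker : f 0 (v (Nat.find hne)) = 0 := by
    rcases hc : Nat.find hne with _ | i
    · exact h0
    · have hvi : v i = 0 := not_not.mp (Nat.find_min hne (by omega))
      simpa [hvi] using hsucc i
  have hlt : finrank K (LinearMap.range g) < finrank K V' := by
    have h1 := LinearMap.finrank_range_add_finrank_ker g
    have h2 : LinearMap.ker g ≠ ⊥ := by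
      intro hb
      have : (⟨v (Nat.find hne), Submodule.subset_span ⟨_, rfl⟩⟩ : V') ∈ LinearMap.ker g := hker
      rw [hb, Submodule.mem_bot] at this
      exact hm (congrArg Subtype.val this)
    have h3 := Submodule.finrank_eq_zero.not.mpr h2
    omega
  have hle := Submodule.finrank_le V'
  have hss := hf.2 V' (LinearMap.range g) hsub (fun hh => by have := Submodule.finrank_eq_zero.mpr hh.1; omega)
    (fun hh => by rw [hh.2, finrank_top] at hlt; omega)
  rw [hV, hW] at hss
  rcases Nat.eq_zero_or_pos k with hk | hk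
  · omega
  · exact absurd (Nat.le_of_mul_le_mul_left hss hk) (by omega)

end Groth.Agent.KronH
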